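import Groth.Agent.VecFrameLib.Basic
import Groth.Agent.ParaFLib.Stalk
import Groth.Agent.DCohLib.StalkTensor
import Groth.Agent.DCohLib.TensorPerf
import Groth.Agent.EulerIneqLib.Basic
import Groth.Agent.RpushLib.Finite
import Groth.Agent.CurveLib.Inv
import Groth.Agent.S14510

/-! # Hopf's inequality for sections of vector bundles -/

set_option autoImplicit false
set_option backward.isDefEq.respectTransparency false
set_option linter.style.haveILetI false

universe u

open CategoryTheory CategoryTheory.Limits AlgebraicGeometry TopologicalSpace Opposite TensorProduct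
open Groth.Agent.DCohLib Groth.Agent.PullbackMod

noncomputable section

namespace Groth.Agent.HopfSecLib

variable {X : Scheme.{u}} [IsIntegral X] {E : X.Modules}

/-- A section of a vector bundle on an integral scheme is determined by its generic germ. -/
theorem eq_zero_of_germ_generic (hE : FlatMod.IsFinLocFree E) (σ : Γ(E, ⊤))
    (h : E.presheaf.germ ⊤ (genericPoint X) trivial σ = 0) : σ = 0 := by
  refine TopCat.Presheaf.section_ext (⟨E.presheaf, E.isSheaf⟩ : TopCat.Sheaf Ab X) ⊤ σ 0 fun x hx => ?_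
  obtain ⟨D, κ, _, s, hxD, hs⟩ := VecFrameLib.exists_frame_nhd hE x
  obtain ⟨c, hc⟩ := (hs x hxD).2 (E.presheaf.germ ⊤ x hx σ)
  choose V hV r hr using fun i => TopCat.Presheaf.exists_germ_eq X.presheaf (c i)
  let W : X.Opens := D ⊓ Finset.univ.inf V
  have hxW : x ∈ W := ⟨hxD, by
    show x ∈ ((Finset.univ.inf V : X.Opens) : Set X)
    rw [TopologicalSpace.Opens.coe_finset_inf]
    simpa using hV⟩
  have hle : ∀ i, W ≤ V i := fun i => inf_le_right.trans (Finset.inf_le (Finset.mem_univ i))
  let r₁ : κ → Γ(X, W) := fun i => X.presheaf.map (homOfLE (hle i)).op (r i)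
  let τ : Γ(E, W) := ∑ i, r₁ i • E.presheaf.map (homOfLE (inf_le_left : W ≤ D)).op (s i)
  have hgerm : ∀ (y : X) (hy : y ∈ W), E.presheaf.germ W y hy τ =
      ∑ i, X.presheaf.germ W y hy (r₁ i) • E.presheaf.germ D y hy.1 (s i) := fun y hy => by
    simp only [τ, map_sum, ParaFLib.germ_smul']
    refine Finset.sum_congr rfl fun i _ => ?_
    congr 1
    exact TopCat.Presheaf.germ_res_apply E.presheaf _ y hy _
  have h1 : E.presheaf.germ W x hxW τ = E.presheaf.germ ⊤ x hx σ := by
    rw [hgerm x hxW]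
    refine Eq.trans (Finset.sum_congr rfl fun i _ => ?_) hc
    simp only [r₁, TopCat.Presheaf.germ_res_apply, hr]
  obtain ⟨U, hxU, iW, iT, hU⟩ := TopCat.Presheaf.germ_eq E.presheaf x hxW hx τ σ h1
  have hηU : genericPoint X ∈ U := ((genericPoint_spec X).mem_open_set_iff U.isOpen).2 ⟨x, trivial, hxU⟩
  have h2 := congrArg (E.presheaf.germ U (genericPoint X) hηU) hU
  rw [TopCat.Presheaf.germ_res_apply, TopCat.Presheaf.germ_res_apply, h, hgerm _ (iW.le hηU)] at h2
  have h3 := (hs (genericPoint X) (iW.le hηU).1).1 (a₁ := fun i => X.presheaf.germ W _ (iW.le hηU) (r₁ i))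
    (a₂ := 0) (by simpa using h2)
  have h4 : ∀ i, r₁ i = 0 := fun i =>
    germ_injective_of_isIntegral X _ (iW.le hηU) ((congrFun h3 i).trans (map_zero _).symm)
  show E.presheaf.germ ⊤ x hx σ = E.presheaf.germ ⊤ x hx 0
  rw [← h1, hgerm x hxW, map_zero]
  simp [h4]

/-- The product of nonzero sections of vector bundles is nonzero. -/
theorem pairS_ne_zero {F : X.Modules} (hE : FlatMod.IsFinLocFree E) (hF : FlatMod.IsFinLocFree F)
    {σ : Γ(E, ⊤)} {τ : Γ(F, ⊤)} (hσ : σ ≠ 0) (hτ : τ ≠ 0) : pairS E F σ τ ≠ 0 := by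
  intro h
  let K := X.presheaf.stalk (genericPoint X)
  have hK : IsField K := Field.toIsField X.functionField
  letI := hK.toField
  have hσ' : E.presheaf.germ ⊤ (genericPoint X) trivial σ ≠ 0 := fun e => hσ (eq_zero_of_germ_generic hE σ e)
  have hτ' : F.presheaf.germ ⊤ (genericPoint X) trivial τ ≠ 0 := fun e => hτ (eq_zero_of_germ_generic hF τ e)
  obtain ⟨f, hf⟩ := Submodule.exists_le_ker_of_notMem (p := (⊥ : Submodule K (E.presheaf.stalk (genericPoint X))))
    (v := E.presheaf.germ ⊤ (genericPoint X) trivial σ) (by simpa using hσ')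
  obtain ⟨g, hg⟩ := Submodule.exists_le_ker_of_notMem (p := (⊥ : Submodule K (F.presheaf.stalk (genericPoint X))))
    (v := F.presheaf.germ ⊤ (genericPoint X) trivial τ) (by simpa using hτ')
  have h0 : E.presheaf.germ ⊤ (genericPoint X) trivial σ ⊗ₜ[K] F.presheaf.germ ⊤ (genericPoint X) trivial τ = 0 := by
    apply (stalkTensor (genericPoint X) E F).injective
    rw [map_zero]
    refine (stalkTensorHom_tmul (M := E) (N := F) (genericPoint X) (U := ⊤) trivial σ τ).trans ?_
    rw [h, map_zero]
  have h5 := congrArg (TensorProduct.lift ((LinearMap.mul K K).compl₁₂ f g)) h0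
  simp only [TensorProduct.lift.tmul, LinearMap.compl₁₂_apply, LinearMap.mul_apply', map_zero] at h5
  exact mul_ne_zero hf.1 hg.1 h5

variable (k : Type u) [Field k] [X.Over (Spec (CommRingCat.of k))]

/-- Hopf's inequality. -/
theorem finrank_add_le [IsAlgClosed k] [IsProper (X ↘ Spec (CommRingCat.of k))] {F : X.Modules}
    (hE : FlatMod.IsFinLocFree E) (hF : FlatMod.IsFinLocFree F)
    [Nontrivial (Coh.HH X E 0)] [Nontrivial (Coh.HH X F 0)] :
    Module.finrank k (Coh.HH X E 0) + Module.finrank k (Coh.HH X F 0) ≤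
      Module.finrank k (Coh.HH X (CohB1.tensorMod E F) 0) + 1 := by
  haveI := EulerIneqLib.isNoetherian_proper (X := X) k
  haveI := EulerIneqLib.finite_HH (k := k) (CurveLib.isCoh_of_isFinLocFree hE) 0
  haveI := EulerIneqLib.finite_HH (k := k) (CurveLib.isCoh_of_isFinLocFree hF) 0
  haveI : Module.Finite k (Coh.HH X (CohB1.tensorMod E F) 0) := EulerIneqLib.finite_HH (k := k)
    (CurveLib.isCoh_of_isFinLocFree (DCohLib.isFinLocFree_tensor hE hF)) 0
  let e : ∀ N : X.Modules, Γ(N, ⊤) ≃+ Coh.HH X N 0 := fun N => RpushLib.h0Γ N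
  let c : k → Γ(X, ⊤) := fun a => Coh.toGlobal (X ↘ Spec (CommRingCat.of k)) a
  have he : ∀ (N : X.Modules) (a : k) (x : Γ(N, ⊤)), e N (c a • x) = a • e N x := fun N a x =>
    RpushLib.h0Γ_smul N (c a) x
  let φ : Coh.HH X E 0 →ₗ[k] Coh.HH X F 0 →ₗ[k] Coh.HH X (CohB1.tensorMod E F) 0 :=
    LinearMap.mk₂ k (fun a b => e _ (pairS E F ((e E).symm a) ((e F).symm b)))
      (fun a a' b => by rw [map_add, pairS_add_left, map_add])
      (fun r a b => by
        rw [← he, ← pairS_smul_left]
        congr 2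
        refine (e E).injective ?_
        rw [he, AddEquiv.apply_symm_apply, AddEquiv.apply_symm_apply])
      (fun a b b' => by rw [map_add, pairS_add_right, map_add])
      (fun r a b => by
        rw [← he, ← pairS_smul_right]
        congr 2
        refine (e F).injective ?_
        rw [he, AddEquiv.apply_symm_apply, AddEquiv.apply_symm_apply])
  refine S14510.result k _ _ _ φ fun a b ha hb h => ?_
  refine pairS_ne_zero hE hF (σ := (e E).symm a) (τ := (e F).symm b) ?_ ?_ ?_
  · exact fun h0 => ha (by rw [← (e E).apply_symm_apply a, h0, map_zero])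
  · exact fun h0 => hb (by rw [← (e F).apply_symm_apply b, h0, map_zero])
  · exact (e _).injective (h.trans (map_zero _).symm)

end Groth.Agent.HopfSecLib
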